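import Mathlib
import Cfsg.Agent.HN.AutHS
import Cfsg.Agent.S2046
import Cfsg.Agent.H95.StemCover
import Cfsg.Agent.H257.RIM.ATool
import Cfsg.Agent.H257.RIM.EKOf

/-!
# S4816 (RIM): the row `HS`, `p = 3` (helper257)

`A = 2^4`, `N(A) ≥ 2^4:A6` (stabilizer of two non-adjacent points of the graph on 100 points), `P = 3^2`, `|N(P)| ≥ 144`.
-/

set_option autoImplicit false
set_option linter.unusedSectionVars false

namespace Cfsg.Agent.H257.RIM.HS

open Cfsg Cfsg.Agent.H665.RIM Equiv
open Cfsg.Agent.SporadicA.PermTab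
open Cfsg.Agent.HN.HS100 (tX tXi tY tYi tZ tW s5 s6 Q Q1 Q2 in5 in6 inX inY inW)

universe u

/-- the inverse of `tW` -/
def tWi : ℕ := 0xc01383083a05e0fc128450b81002e8580920582804f0200ec2905505c18c2d0590181201a03502a088068320be0702204b0bc1881e05b0a20f80000403a01c1205708e158148420861502982d0100801884d0720841b84606c1280d80106007c2600304c0380581a04e0481c0230661040782b0540601e8280280080882c0320140b81303c02804806
/-- the 16 elements of `A`, 1100 bits each -/
def big : ℕ := 0x321081001a0581041502203a1401701b026070270140a60480f05a0941542204c09613c2183c0180942284d0921882f0400720f81d0480560f41f82f02207c020300060c8070340701641485f0761741682604e0a02302400c1701086106c1442d8560b01803181802e03c0a8540ae1481b81002c0c4068470040140480800e08c0503506602c008000740ac3082d0be104140140b61680901b0ae0fc2a8220a60b80f05006a1382204c0640100100608c11c0384d0160ec2f0400ac0f80c82308418c0e01f02c0bc2780a00612c0700506c1483002c0c40980d05d0480a806027078150048200701440e8390b00a41e81802a0dc0b85c026164078080220c4068250860d01081008a1201804a066124008000681882b84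a0a0104248220b60b01704d0c21202a8140a60480f05f0341382c04c0641802e85604a0301081b0541082f04000c0f80281c0760281183606e0e01486301c12c0181903e1640205a05610c1a80202002c238080721702281305e1440e83c08813c1801802a0580b8540401480882701e0cc0684604c0e8038240120fc1e82d0620a00080000a0ec098350b41040581403a17c0904d04008c270220a60b80f02c05a1542c04c0960a41303908e1180481b0500ac2f0400780f81a03f0c40c02403801e0d83003d01c0c80183a05e1482785008400825043010124128100ac1500385703e1442d8060880100501802e0440a85c0c21640b02406e0cc0680c0ba064228270420703181a0620a8008000340ac100190b40780e02209c17c090440260a80e8140a60b82082c06816c0d84c02a0c01e04308e118038580900ec2884004c0f8168490840a41402f06e07c0504f06605c1884a0701481e8500c41581d0390200fc128080041700486106c1782a85d09a18c30018064058258540ae1640882701e0380680c00c0d41082408a02c0200500608c0080005a1083083a0a00781f8140aa0b0170440ae0a02d8220a60482085f00a0740d84c02e0280300204a03022858046188288400ba0f80d00b0561801501f01e0bc180040660541883506c1643185a0760e40c85601007023810086150108200701782702609a0f4148180960441905c0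261480b02406e038068460781280482700e12427834006120008000940ec2b8340be078240220aa168090580c21242d8140a60b8208500320742684c02e18c2b05d08c11c048440380ac288400040f81a82a0c4010058360220e01e8600620541981a03e1480502c0840f00280604e08c0602404c1700381305e178270430360c02781809603c190540401641b81002c00c068250720b4228080420a01483a01c0fc0080006a188098050580781181409c1401705804002c0e8220a60482085a07416c2684c02a0f41c8260180941084407e108288400860f82502807613c2483802c0d83182906205c1982d05e1641805f0560181a03c048120230270ba1502285703e1782a802036028020180640dc2585c0c21480780802200c068470ac068038100120a83001901c070008000081082b80a0be144030540aa1682c81b0c20082d85c0a61482f05007a0742204c02a0e81f82808e1181084d0721880f0400920f8278260561282182f01e07c0c82d01c05c018290700b81a02c07608c180480480f0128270540502281306c1042700b0b00141a818064044258220400480b00806e0cc0680c038180038100121740d0630621580080009e0ac098300581441e05c09c1402901b04010c0e8540a61642f05a0c616c2204c02e0640e02a04a0300484d0ac0ec0f0400160f80205d0840d40101f06e0bc1d01a01c0540186006c0480285f0c4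1200502304e01823824050088038570701042a8490b00d025018096058190140c20b80881001e0cc0684607e0a4228080420981683d0620e4008000521881003d0b41441c85409c17c2c84d0260980e85c0a61482f02c01416c2c04c02e0141180b08c11c2281b00c1080f0400540f8300020760682e83602c0e01a0350060540700403e0b80c8500560fc3181c010158060100920501086105e1042a8280880e8168180960dc190220ae048078240220c40682509013c0482700e10c250300660f0008000c00ec308630a01442b05c0aa0b02904d0ae1742d8540a61642f05f0600742c04c02a0d0240490180940381b0780ac0f0400500f8148430c40b4130380220d80284a00605c0704f05e0481d05a0840701e83f0200e4230080160880482003e1042702a0880640d01806403c258140260b81b82702c0c4068470460101082408a0081a80a066018008000140ac2b8040a0178010540b60b0290440c20182a85c0a61642885f0521380d84c0960b41403f0180940485804c0ec208400900f8180390840d01e02f02c07c0d03a0620c81983d0700482505a0c402c2784901010c230100380500381306c0780e82309a0d40281802e0dc0a8220400b80782402200c0684705418c228270421580c86001c174008000601080984f0b41782185c03a17c2c8440400f0270540a61482882c0c01540d84c0640681501c08c11c108580ba18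8208400460f8050560560140301f0220bc1681906212c1986306c0b81a8500761240200b0200080600807e088228570700782d84809a1281a01802a03c0b8140c20481b82702c00c068250500f4038240120e41d02901c0980080007a0ec100290581781305403a140290580260e42705c0a61642885a0081542684c0640d40582304a030038440040ac208400380f8318060c40642b03601e0e02500506612c1880a03e0480d05f0840a03002a048174238270900500486105e0782d83f0360b41d01802a0440b8220ae0b80b00806e038068460920c01081008a0f01a04f00610c008000c6188308600be1782e85c0b61682c8580ae1582a8540a61482885009e1382684c0961282484808e118228440861082084007e0f81e83c0760e81c83806e0d81a8340660c81883005e0b81682c0560a81482804e098128240460881082003e0780e81c0360680c81802e0580a8140260480881001e0380680c0160280480800e0180280400600800800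
def px : ℕ := 0x7415c2081902a1880101b09c12c1b0070bc10c2a8440a60e01d8170080742284c06e0f42480b08e0300a0090380801581804c1000d03f0260d0030310b4038300630240582904f0060bc028320c20e41685d0200f0230240901602e01e0661082d8560421281a83e0220b00784d0a207c280080be164068250460282a0270440a81483005c0a000800
def pxi : ℕ := 0x681781583501e15c1402103a0dc070220c40702a8090a60c40981106016c0a04c0b40682482308e094268540ac0783083e078060250260a218c150520961640c83a03e0b01c00405c00c14816082018028020100fc0602401601c0d842024080270430b80f4300400a00c82f8450760cc0b82702a0d806846090028220100b00e41684f05e17400800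
def py : ℕ := 0x320380902d0580d81e04208c17c268130b20082382b01a1601c0500600302b85302a0f42482304809c2f06105000c0f8400ac0f80d01c0620d40300701e114148600a812c1100404206c1a05a0660e41d0260b610c040550160ec0f02e0120bc1285d0401280281802e0dc190620a41100884e02c050260100900282081d0a20a83184f0b80fc00800
def pyi : ℕ := 0xa050220340b41140e00304e0b02b85209a0fc1203309804c038500080402c80d0640682480b0aa16c1b01204c170048400040f82505d0440a41505102c1781d02d0560541d84f03c0803005f0a80181a84308c0a00e8470900c41781b0820840403c05c0f43181802e03c2580e0b01840880c06e1882984e0460280f8250700e40c83008415800800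
def s5i : ℕ := 0x320802c83408e06c1e0410a0094018360241581605107c0382684600a17c178400480281183f01e0dc0483800c1842c00d00414c020390ae0d4058140b61700d03d0c409c1d83a0a80cc1680c0261201482602a0a00884b0861781082e0441102d01c03e0c03184c0201540401e0a40c40e81709c0ac0c0160ba13c2283200e124250600840a800800
def s6i : ℕ := 0x34040230050700781f85902e07c2a04404a124190520301702082f07412c268400aa0281c8430ae0800b05804609c2884c04c0f81682a0100100582c04217c180600661381884a0b4050318360480181a03c056070098420040b80780c0a01780a85d0360f42785303a01c2d81208e0882283b01200c068610ac0d41b8620220a01481901c12000800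
def n1 : ℕ := 0x5c1343081e0be1642c0290b603c2f05d0ae0ec0c0540220a01f80d0601183101702c1280084807c1380702b0620b4090240a211c1e8070ac06c1c82606e0d8108200120c82184f03218c210150880a82e05203a0e0080400160701a83403e180138220740681785509812c16014004104298250b41142800c046000198080780180180400a04c2480a
def n1i : ℕ := 0x5c1343081e0be1642c0290b603c2f05d0ae0ec0c0540220a01f80d0601183101702c1280084807c1380702b0620b4090240a211c1e8070ac06c1c82606e0d8108200120c82184f03218c210150880a82e05203a0e0080400160701a83403e180138220740681785509812c16014004104298250b41142800c046000198080780180180400a04c2480a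
def n2 : ℕ := 0xa41381b8380a811814003028184060340100081e81600c0643000402e1642d839012090248400340d80805f0860781600b04c08c238560c61440683a0660742c0220b40ac168500840bc0981f02a1301883f0ae1742684a07c0d41085c01e0b82f03c0401541d84809e110090250520c81804508209c150620300042580e00a14c0381103607005000
def n2i : ℕ := 0x760302d0510880741302009a0cc2703504e0f00d05f00c18c1d03002e1881282a0120902481807a178080160860bc0784805008c2a81c0320e0260600c21181105806e0481481105c078188410640340985d01c0fc0a04a07c0d01081b0581081b00200611c2900b09e1501585b05a0540204503e0201c8590800042585700a14c038500b815805000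
def q1 : ℕ := 0xe0942f8220c20401e01b0ae07c040190b60982505a0720a4028040221140602a0561542481807a0500e8320ba00c2580b03808c1202806a0c4260600881182881302a0483181705c1701c05402c14c2c04306c0fc2f01a0800b4210200580840705605e11c2904809e104048270680dc180620661380305907c0040784d0740341d85003c00805000
def oc1 : ℕ := 0x47fffff81bfffffc05023ffffffff813ffe027fffffffe06c0d7fffffffffffffffffffffffffffffffffff034063fffff027fffff811024087ff818fffffc0c823fffffc0cfff0420a408ffffffffc0d012ffe047fffffffe06c1002affe08bff812051ffc0cffffffffffffff011ffffffffffffffffffffffffffffff031ffc117ff056003fffff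
def oc2 : ℕ := 0xffffffffffffffffffffffffffffffffffffffffffffffffffffffffffffffffffffffffffffffffffffffffffe023fffffffffffffffffffffffffffffffffffffffffffffffffffffffffffffffffffffffffffffffffffffffc087ffffe063fffffffffffffffffffffffffffffffffffffffffffffffffffffffffffffffffffffff001ffffffff
def sg_s5 : ℕ := 0x1e0340580900e0140180101c0300500800c01001000
def dg_s5 : ℕ := 0x1e0340580900e0140180101c0300500800c01001000
def sg_s6 : ℕ := 0x1a0300780e01402c040090080140300700600800800
def dg_s6 : ℕ := 0xe0280080c0060380280801e0080480401601806800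
def sg_px : ℕ := 0xc00c0700b00e0080780a0180240200101a02002800
def dg_px : ℕ := 0x12034018070180200300201603c0080501c02802000
def sg_py : ℕ := 0x601c0580f00c0080700a0120340080501802002000
def dg_py : ℕ := 0x180240300301a0200380201c02c0200101e02802800

/-- the words of the elements of `A` in `s5`, `s6` -/
def wA : List (List Bool) := [[],
  [true, true],
  [false, false, false, true, true, false],
  [false, false, false, true, true, false, true, true],
  [false, false, true, true, false, false],
  [false, false, true, true, false, false, true, true],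
  [false, false, true, true, false, true, true, false],
  [false, false, true, true, false, true, true, false, true, true],
  [false, true, true, false, false, false],
  [false, true, true, false, false, false, true, true],
  [false, true, true, false, false, true, true, false],
  [false, true, true, false, false, true, true, false, true, true],
  [false, true, true, false, true, true, false, false],
  [false, true, true, false, true, true, false, false, true, true],
  [false, true, true, false, true, true, false, true, true, false],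
  [true, false, true, true, false, true, true, false, false, true]]

/-! ### the elementary abelian group -/

def tabA (i : ℕ) : ℕ := Nat.land (Nat.shiftRight big (Nat.mul 1100 i)) (Nat.sub (Nat.pow 2 1100) 1)

theorem hA (i : Fin 16) : chkInv 100 (tabA i) (tabA i) = true := by
  revert i
  decide +kernel

def elP (i : Fin 16) : Perm (Fin 100) := mkPerm (tabA i) (tabA i) (hA i)

def mm (j i : Fin 16) : Fin 16 := ⟨Nat.mod (Nat.xor j i) 16, Nat.mod_lt _ (by norm_num)⟩

theorem chkMul : allB (fun j => allB (fun i => allB (fun x =>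
    Nat.beq (lk (tabA (Nat.mod (Nat.xor j i) 16)) x) (lk (tabA j) (lk (tabA i) x))) 100) 16) 16 = true := by
  decide +kernel

theorem elP_mul (j i : Fin 16) : elP (mm j i) = elP j * elP i := by
  refine Equiv.ext fun x => Fin.ext ?_
  change lk (tabA (Nat.mod (Nat.xor j i) 16)) x = lk (tabA j) (lk (tabA i) x)
  exact Nat.eq_of_beq_eq_true ((allB_iff _ _).1 ((allB_iff _ _).1 ((allB_iff _ _).1 chkMul j j.2) i i.2) x x.2)

theorem elP_zero : elP 0 = 1 := by
  refine Equiv.ext fun x => Fin.ext ?_
  change lk (tabA 0) x = x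
  revert x
  decide +kernel

theorem elP_one_ne : elP 1 ≠ 1 := by
  intro h
  have h1 : ∀ x : Fin 100, lk (tabA (1 : Fin 16)) x = x := fun x =>
    congrArg (fun g : Perm (Fin 100) => ((g x : Fin 100) : ℕ)) h
  exact absurd h1 (by decide +kernel)

theorem Q2_le : Q2 ≤ Q := fun _ h => h.1.1

theorem mem_of_word {G : Subgroup (Perm (Fin 100))} {L0 L : List ℕ} {t ti : ℕ} (h : chkInv 100 t ti = true)
    (h0 : ∀ P ∈ L0, InG G P) (hL : L ⊆ L0) (hS : chkWord 100 t L = true) : mkPerm t ti h ∈ G := by
  obtain ⟨g, hg, hgi⟩ := InG.word (fun P hP => h0 P (hL hP)) hS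
  have h1 : mkPerm t ti h = g := Equiv.ext fun x => Fin.ext (hgi x).symm
  rw [h1]
  exact hg

theorem mem56 {t ti : ℕ} (h : chkInv 100 t ti = true) (w : List Bool)
    (hS : chkWord 100 t (w.map fun b => cond b s6 s5) = true) : mkPerm t ti h ∈ Q := by
  refine mem_of_word (L0 := [s5, s6]) h ?_ ?_ hS
  · intro P hP
    rcases List.mem_cons.1 hP with rfl | hP
    · exact in5.mono Q2_le
    rcases List.mem_cons.1 hP with rfl | hP
    · exact in6.mono Q2_le
    exact absurd hP List.not_mem_nil
  · intro P hP
    obtain ⟨b, -, rfl⟩ := List.mem_map.1 hP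
    cases b <;> simp

theorem chkA : ∀ i : Fin 16, chkWord 100 (tabA i) ((wA.getD i []).map fun b => cond b s6 s5) = true := by
  decide +kernel

theorem elP_mem (i : Fin 16) : elP i ∈ Q := mem56 _ _ (chkA i)

/-- the elements of `A` -/
def el (i : Fin 16) : Q := ⟨elP i, elP_mem i⟩

/-! ### the characters -/

def chb (c i : Fin 16) : Bool := Nat.testBit 0x6996 (Nat.land c i)
def ch (c i : Fin 16) : ℤ := cond (chb c i) (-1) 1

theorem ch_mul : ∀ c j i : Fin 16, ch c (mm j i) = ch c j * ch c i := by decide +kernel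
theorem ch_sq : ∀ c j : Fin 16, ch c j * ch c j = 1 := by decide +kernel
theorem ch_zero : ∀ i : Fin 16, ch 0 i = 1 := by decide +kernel
theorem orth : ∀ c c' : Fin 16, (∑ i, ch c i * ch c' i) = if c = c' then ((16 : ℕ) : ℤ) else 0 := by decide +kernel
theorem orth' : ∀ i : Fin 16, (∑ c, ch c i) = if i = 0 then ((16 : ℕ) : ℤ) else 0 := by decide +kernel
theorem mm_mm : ∀ j i : Fin 16, mm j (mm j i) = i := by decide +kernel

theorem adata : AData el ch mm 0 0 16 where
  hm j := Function.Involutive.bijective (mm_mm j)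
  el0 := Subtype.ext elP_zero
  elm j i := Subtype.ext (elP_mul j i)
  chm := ch_mul
  chs := ch_sq
  ch0 := ch_zero
  orth := orth
  orth' := orth'

/-! ### elements normalizing `A` -/

def toF (t : ℕ) (i : Fin 16) : Fin 16 := ⟨lk t i % 16, Nat.mod_lt _ (by norm_num)⟩

theorem rel_of {t ti : ℕ} (h : chkInv 100 t ti = true) (hQ : mkPerm t ti h ∈ Q) {s d si : ℕ}
    (hs : ∀ i, toF si (toF s i) = i)
    (h1 : ∀ i : Fin 16, ∀ x : Fin 100, lk (tabA (toF s i)) (lk t x) = lk t (lk (tabA i) x))
    (h2 : ∀ c i, ch (toF d c) (toF s i) = ch c i) (c : Fin 16) :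
    Rel el ⟨mkPerm t ti h, hQ⟩ (ch c) (ch (toF d c)) := by
  refine ⟨toF s, Finite.injective_iff_bijective.1 (Function.LeftInverse.injective hs), fun i => ?_, h2 c⟩
  refine Subtype.ext (Equiv.ext fun x => Fin.ext ?_)
  exact h1 i x

theorem c5 : chkInv 100 s5 s5i = true := by decide +kernel
theorem c6 : chkInv 100 s6 s6i = true := by decide +kernel
theorem cpx : chkInv 100 px pxi = true := by decide +kernel
theorem cpy : chkInv 100 py pyi = true := by decide +kernel
theorem cn1 : chkInv 100 n1 n1i = true := by decide +kernel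
theorem cn2 : chkInv 100 n2 n2i = true := by decide +kernel
theorem cW : chkInv 100 tW tWi = true := by decide +kernel

theorem inWi : InG Q tWi := by
  obtain ⟨g, hg, hgi⟩ := inW
  refine ⟨g⁻¹, Q.inv_mem hg, fun i => ?_⟩
  have h1 : mkPerm tW tWi cW = g := Equiv.ext fun x => Fin.ext (hgi x).symm
  rw [← h1]
  rfl

theorem inYi : InG Q tYi := by
  obtain ⟨g, hg, hgi⟩ := inY
  refine ⟨g⁻¹, Q.inv_mem hg, fun i => ?_⟩
  have h1 : mkPerm tY tYi Cfsg.Agent.HN.HS100.cY = g := Equiv.ext fun x => Fin.ext (hgi x).symm
  rw [← h1]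
  rfl

theorem in_gens : ∀ P ∈ [tX, tY, tYi, tW, tWi], InG Q P := by
  intro P hP
  rcases List.mem_cons.1 hP with rfl | hP
  · exact inX
  rcases List.mem_cons.1 hP with rfl | hP
  · exact inY
  rcases List.mem_cons.1 hP with rfl | hP
  · exact inYi
  rcases List.mem_cons.1 hP with rfl | hP
  · exact inW
  rcases List.mem_cons.1 hP with rfl | hP
  · exact inWi
  exact absurd hP List.not_mem_nil

theorem m5 : mkPerm s5 s5i c5 ∈ Q := mem56 _ [false] (by decide +kernel)
theorem m6 : mkPerm s6 s6i c6 ∈ Q := mem56 _ [true] (by decide +kernel)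
theorem mpx : mkPerm px pxi cpx ∈ Q :=
  mem56 _ [false, false, true, false, true, false, false, false, true] (by decide +kernel)
theorem mpy : mkPerm py pyi cpy ∈ Q :=
  mem56 _ [false, false, false, true, false, false, true, false, true, false, true] (by decide +kernel)
theorem mn1 : mkPerm n1 n1i cn1 ∈ Q :=
  mem_of_word (L := [tY, tW, tYi, tWi, tYi, tW, tY, tY]) cn1 in_gens (by simp) (by decide +kernel)
theorem mn2 : mkPerm n2 n2i cn2 ∈ Q :=
  mem_of_word (L := [tWi, tWi, tYi, tWi, tY, tY, tX, tY, tWi, tWi, tYi]) cn2 in_gens (by simp) (by decide +kernel)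

/-- the elements of `Q` -/
def g5 : Q := ⟨_, m5⟩
def g6 : Q := ⟨_, m6⟩
def gx : Q := ⟨_, mpx⟩
def gy : Q := ⟨_, mpy⟩
def gn1 : Q := ⟨_, mn1⟩
def gn2 : Q := ⟨_, mn2⟩

def si_s5 : ℕ := 0x1e01c0700601a0140600401600c0500201200404000
def si_s6 : ℕ := 0x1a0300780e01402c040090080140300700600800800
def si_px : ℕ := 0x12034018070180200300201603c0080501c02802000
def si_py : ℕ := 0x180240300301a0200380201c02c0200101e02802800

theorem rel5 (c : Fin 16) : Rel el g5 (ch c) (ch (toF dg_s5 c)) :=
  rel_of c5 m5 (s := sg_s5) (si := si_s5) (by decide +kernel) (by decide +kernel) (by decide +kernel) c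
theorem rel6 (c : Fin 16) : Rel el g6 (ch c) (ch (toF dg_s6 c)) :=
  rel_of c6 m6 (s := sg_s6) (si := si_s6) (by decide +kernel) (by decide +kernel) (by decide +kernel) c
theorem relx (c : Fin 16) : Rel el gx (ch c) (ch (toF dg_px c)) :=
  rel_of cpx mpx (s := sg_px) (si := si_px) (by decide +kernel) (by decide +kernel) (by decide +kernel) c
theorem rely (c : Fin 16) : Rel el gy (ch c) (ch (toF dg_py c)) :=
  rel_of cpy mpy (s := sg_py) (si := si_py) (by decide +kernel) (by decide +kernel) (by decide +kernel) c

theorem iter {α : Type} {T : α → Prop} {f : α → α} (h : ∀ c, T c → T (f c)) (k : ℕ) {c : α} (hc : T c) :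
    T (f^[k] c) := by
  induction k with
  | zero => exact hc
  | succ k ih => rw [Function.iterate_succ_apply']; exact h _ ih

theorem tr_dec : ∀ c : Fin 16, c ≠ 0 → ∃ a b d e : Fin 4,
    (toF dg_s6)^[e] ((toF dg_s5)^[d] ((toF dg_s6)^[b] ((toF dg_s5)^[a] 1))) = c := by decide +kernel

theorem hT (c : Fin 16) (hc : c ≠ 0) : ∃ g : Q, Rel el g (ch 1) (ch c) := by
  obtain ⟨a, b, d, e, rfl⟩ := tr_dec c hc
  have h5 : ∀ c, (∃ g : Q, Rel el g (ch 1) (ch c)) → ∃ g : Q, Rel el g (ch 1) (ch (toF dg_s5 c)) := by
    rintro c ⟨g, hg⟩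
    exact ⟨_, hg.trans (rel5 c)⟩
  have h6 : ∀ c, (∃ g : Q, Rel el g (ch 1) (ch c)) → ∃ g : Q, Rel el g (ch 1) (ch (toF dg_s6 c)) := by
    rintro c ⟨g, hg⟩
    exact ⟨_, hg.trans (rel6 c)⟩
  exact iter (T := fun c => ∃ g : Q, Rel el g (ch 1) (ch c)) h6 _ (iter h5 _ (iter h6 _ (iter h5 _ ⟨1, Rel.refl _ _⟩)))

def R : Finset (Fin 16) := {0, 1, 2, 3}

theorem R_dec : ∀ c : Fin 16, ∃ r ∈ R, ∃ a b : Fin 3, (toF dg_px)^[a] ((toF dg_py)^[b] r) = c := by decide +kernel

theorem R_card : (Finset.univ \ R).card = 12 := by decide +kernel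

/-! ### the Sylow subgroup -/

theorem gx3 : gx ^ 3 = 1 := by
  refine Subtype.ext (Equiv.ext fun x => Fin.ext ?_)
  change lk px (lk px (lk px x)) = x
  revert x
  decide +kernel

theorem gy3 : gy ^ 3 = 1 := by
  refine Subtype.ext (Equiv.ext fun x => Fin.ext ?_)
  change lk py (lk py (lk py x)) = x
  revert x
  decide +kernel

theorem gxy : gx * gy = gy * gx := by
  refine Subtype.ext (Equiv.ext fun x => Fin.ext ?_)
  change lk px (lk py x) = lk py (lk px x)
  revert x
  decide +kernel

theorem n1x : gn1 * gx = gy * gn1 := by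
  refine Subtype.ext (Equiv.ext fun x => Fin.ext ?_)
  change lk n1 (lk px x) = lk py (lk n1 x)
  revert x
  decide +kernel

theorem n1y : gn1 * gy = gx * gn1 := by
  refine Subtype.ext (Equiv.ext fun x => Fin.ext ?_)
  change lk n1 (lk py x) = lk px (lk n1 x)
  revert x
  decide +kernel

theorem n2x : gn2 * gx = gx * gy * gy * gn2 := by
  refine Subtype.ext (Equiv.ext fun x => Fin.ext ?_)
  change lk n2 (lk px x) = lk px (lk py (lk py (lk n2 x)))
  revert x
  decide +kernel

theorem n2y : gn2 * gy = gx * gx * gy * gy * gn2 := by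
  refine Subtype.ext (Equiv.ext fun x => Fin.ext ?_)
  change lk n2 (lk py x) = lk px (lk px (lk py (lk py (lk n2 x))))
  revert x
  decide +kernel

/-- `P = 3^2` -/
def P0 : Subgroup Q := Subgroup.zpowers gx ⊔ Subgroup.zpowers gy

theorem gx_mem : gx ∈ P0 := Subgroup.mem_sup_left (Subgroup.mem_zpowers gx)
theorem gy_mem : gy ∈ P0 := Subgroup.mem_sup_right (Subgroup.mem_zpowers gy)

theorem card_zp {g : Q} (h3 : g ^ 3 = 1) (hne : g ≠ 1) : Nat.card (Subgroup.zpowers g) = 3 := by
  rw [Nat.card_zpowers]
  exact orderOf_eq_prime h3 hne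

theorem gx_ne : gx ≠ 1 := by
  intro h
  have h1 : ∀ x : Fin 100, lk px x = x := fun x =>
    congrArg (fun g : Q => ((g : Perm (Fin 100)) x : ℕ)) h
  exact absurd h1 (by decide +kernel)

theorem gy_not_mem : gy ∉ Subgroup.zpowers gx := by
  rintro ⟨k, hk⟩
  have h1 : orderOf gx = 3 := orderOf_eq_prime gx3 gx_ne
  have h2 : gx ^ (k % 3) = gy := by
    rw [← hk]
    have h3 := zpow_mod_orderOf gx k
    rw [h1] at h3
    exact h3
  have h3 : 0 ≤ k % 3 := Int.emod_nonneg k (by norm_num)
  have h4 : k % 3 < 3 := Int.emod_lt_of_pos k (by norm_num)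
  generalize k % 3 = m at h2 h3 h4
  interval_cases m
  · rw [zpow_zero] at h2
    have h5 : ∀ x : Fin 100, (x : ℕ) = lk py x := fun x =>
      congrArg (fun g : Q => ((g : Perm (Fin 100)) x : ℕ)) h2
    exact absurd h5 (by decide +kernel)
  · rw [zpow_one] at h2
    have h5 : ∀ x : Fin 100, lk px x = lk py x := fun x =>
      congrArg (fun g : Q => ((g : Perm (Fin 100)) x : ℕ)) h2
    exact absurd h5 (by decide +kernel)
  · have h6 : gx * gx = gy := by
      rw [← h2]
      exact (zpow_two gx).symm
    have h5 : ∀ x : Fin 100, lk px (lk px x) = lk py x := fun x =>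
      congrArg (fun g : Q => ((g : Perm (Fin 100)) x : ℕ)) h6
    exact absurd h5 (by decide +kernel)

theorem card_Q : Nat.card Q = 44352000 := Cfsg.Agent.HN.AutBound.card_Q

instance : Finite Q := Nat.finite_of_card_ne_zero (by rw [card_Q]; norm_num)

instance : Fact (Nat.Prime 3) := ⟨by norm_num⟩

theorem P0_isP : IsPGroup 3 P0 := by
  have hx : IsPGroup 3 (Subgroup.zpowers gx) := IsPGroup.of_card (n := 1) (by rw [card_zp gx3 gx_ne, pow_one])
  have hyne : gy ≠ 1 := by
    rintro h
    apply gy_not_mem
    rw [h]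
    exact Subgroup.one_mem _
  have hy : IsPGroup 3 (Subgroup.zpowers gy) := IsPGroup.of_card (n := 1) (by rw [card_zp gy3 hyne, pow_one])
  refine hx.to_sup_of_normal_right' hy ?_
  rw [Subgroup.zpowers_le, Subgroup.mem_normalizer_iff]
  intro h
  have hc : ∀ h : Q, h ∈ Subgroup.zpowers gy → gx * h * gx⁻¹ = h := by
    rintro _ ⟨k, rfl⟩
    have h1 : Commute gx (gy ^ k) := Commute.zpow_right gxy k
    rw [h1.eq, mul_inv_cancel_right]
  constructor
  · intro hh
    rwa [hc h hh]
  · intro hh
    have h1 := hc _ hh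
    have h2 : h = gx⁻¹ * (gx * h * gx⁻¹) * gx := by group
    have h3 : gx⁻¹ * (gx * h * gx⁻¹) * gx = gx * h * gx⁻¹ := by
      conv_lhs => rw [← h1]
      group
    rw [h2, h3]
    exact hh

theorem exists_sylow : ∃ P : Sylow 3 Q, (P : Subgroup Q) = P0 := by
  obtain ⟨P, hP⟩ := P0_isP.exists_le_sylow
  refine ⟨P, ?_⟩
  have h1 : Nat.card P = 9 := by
    rw [P.card_eq_multiplicity, card_Q]
    have e : Nat.factorization 44352000 3 = 2 := by
      rw [show (44352000 : ℕ) = 3 ^ 2 * 4928000 by norm_num,
        Nat.factorization_mul (by norm_num) (by norm_num), Nat.Prime.factorization_pow (by norm_num)]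
      simp [Nat.factorization_eq_zero_of_not_dvd (show ¬ 3 ∣ 4928000 by norm_num)]
    rw [e]
    norm_num
  symm
  refine Subgroup.eq_of_le_of_card_ge hP ?_
  rw [h1]
  obtain ⟨k, hk⟩ := IsPGroup.iff_card.1 P0_isP
  rw [hk]
  by_contra hcon
  have h2 : k < 2 := by
    by_contra h3
    apply hcon
    calc 9 = 3 ^ 2 := by norm_num
      _ ≤ 3 ^ k := Nat.pow_le_pow_right (by norm_num) (by omega)
  have h3 : Nat.card P0 ≤ 3 := by
    rw [hk]
    calc 3 ^ k ≤ 3 ^ 1 := Nat.pow_le_pow_right (by norm_num) (by omega)
      _ = 3 := by norm_num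
  have h4 : Subgroup.zpowers gx = P0 := by
    refine Subgroup.eq_of_le_of_card_ge le_sup_left ?_
    rw [card_zp gx3 gx_ne]
    exact h3
  exact gy_not_mem (by rw [h4]; exact gy_mem)

theorem hR (c : Fin 16) : ∃ r ∈ R, ∃ g ∈ P0, Rel el g (ch r) (ch c) := by
  obtain ⟨r, hr, a, b, rfl⟩ := R_dec c
  refine ⟨r, hr, ?_⟩
  have hx : ∀ c, (∃ g ∈ P0, Rel el g (ch r) (ch c)) → ∃ g ∈ P0, Rel el g (ch r) (ch (toF dg_px c)) := by
    rintro c ⟨g, hg, h⟩
    exact ⟨_, P0.mul_mem gx_mem hg, h.trans (relx c)⟩
  have hy : ∀ c, (∃ g ∈ P0, Rel el g (ch r) (ch c)) → ∃ g ∈ P0, Rel el g (ch r) (ch (toF dg_py c)) := by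
    rintro c ⟨g, hg, h⟩
    exact ⟨_, P0.mul_mem gy_mem hg, h.trans (rely c)⟩
  exact iter (T := fun c => ∃ g ∈ P0, Rel el g (ch r) (ch c)) hx _ (iter hy _ ⟨1, P0.one_mem, Rel.refl _ _⟩)

theorem mem_norm {g : Q} (hx : g * gx * g⁻¹ ∈ P0) (hy : g * gy * g⁻¹ ∈ P0) : g ∈ Subgroup.normalizer (P0 : Set Q) := by
  apply Subgroup.mem_normalizer_fintype
  have h1 : P0 ≤ P0.comap (MulAut.conj g).toMonoidHom := by
    refine sup_le ?_ ?_
    · rw [Subgroup.zpowers_le]
      exact hx
    · rw [Subgroup.zpowers_le]
      exact hy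
  intro n hn
  exact h1 hn

theorem le_card_norm : 144 ≤ Nat.card (Subgroup.normalizer (P0 : Set Q)) := by
  let N : Subgroup Q := Subgroup.normalizer (P0 : Set Q)
  let G : Subgroup (Perm (Fin 100)) := N.map Q.subtype
  have hcard : Nat.card G = Nat.card N := Nat.card_congr (N.equivMapOfInjective Q.subtype Q.subtype_injective).toEquiv.symm
  have i1 : InG G n1 := by
    refine ⟨_, ⟨gn1, ?_, rfl⟩, fun _ => rfl⟩
    refine mem_norm ?_ ?_
    · rw [n1x, mul_inv_cancel_right]; exact gy_mem
    · rw [n1y, mul_inv_cancel_right]; exact gx_mem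
  have i2 : InG G n2 := by
    refine ⟨_, ⟨gn2, ?_, rfl⟩, fun _ => rfl⟩
    refine mem_norm ?_ ?_
    · rw [n2x, mul_inv_cancel_right]
      exact P0.mul_mem (P0.mul_mem gx_mem gy_mem) gy_mem
    · rw [n2y, mul_inv_cancel_right]
      exact P0.mul_mem (P0.mul_mem (P0.mul_mem gx_mem gx_mem) gy_mem) gy_mem
  have ix : InG G px := ⟨_, ⟨gx, Subgroup.le_normalizer gx_mem, rfl⟩, fun _ => rfl⟩
  have iy : InG G py := ⟨_, ⟨gy, Subgroup.le_normalizer gy_mem, rfl⟩, fun _ => rfl⟩
  have iall : ∀ P ∈ [n1, n2, px, py], InG G P := by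
    intro P hP
    rcases List.mem_cons.1 hP with rfl | hP
    · exact i1
    rcases List.mem_cons.1 hP with rfl | hP
    · exact i2
    rcases List.mem_cons.1 hP with rfl | hP
    · exact ix
    rcases List.mem_cons.1 hP with rfl | hP
    · exact iy
    exact absurd hP List.not_mem_nil
  have iq : InG (ps G 2) q1 := by
    refine InG.ps (x := 2) ?_ (by decide +kernel)
    exact InG.word (L := [n2, px, py]) (fun P hP => iall P (by simp at hP ⊢; tauto)) (by decide +kernel)
  have h1 : 4 * 1 ≤ Nat.card (ps G 2) :=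
    card_ge_of_chk (x := 3) (L := [q1]) (C := oc2) iq (by intro P hP; rw [List.mem_singleton.1 hP]; exact iq)
      (by decide +kernel) (by decide +kernel) Nat.card_pos
  have h2 : 36 * (4 * 1) ≤ Nat.card G :=
    card_ge_of_chk (x := 2) (L := [n1, n2, px, py]) (C := oc1) i1 iall (by decide +kernel) (by decide +kernel) h1
  rw [hcard] at h2
  exact h2

theorem noPEx_three {S : Type u} [Group S] (h : Spor.IsoHS S) : NoPEx 3 S := by
  obtain ⟨e⟩ := h
  obtain ⟨⟨f⟩, -⟩ := Cfsg.Agent.HN.AutHS.nonempty_Q
  refine noPEx_of_equiv (f.trans e.symm) ?_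
  intro V _ _ _ hV hf hst
  obtain ⟨P, hP⟩ := exists_sylow
  have h1 := noPEx_of_atool_aux (V := V) (p := 3) adata (by norm_num) hV hf 1
    ⟨1, fun h => elP_one_ne (congrArg Subtype.val h)⟩ hT P R (by decide) (by
      intro c
      obtain ⟨r, hr, g, hg, hrel⟩ := hR c
      exact ⟨r, hr, g, by rw [← hP] at hg; exact hg, hrel⟩) (Subgroup.normalizer (P0 : Set Q)) (by
      intro x hx g hg
      have hg' : g ∈ P0 := by rw [← hP]; exact hg
      have h2 := (Subgroup.mem_normalizer_iff.1 (Subgroup.inv_mem _ hx) g).1 hg'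
      rw [inv_inv] at h2
      change x⁻¹ * g * x ∈ (P : Subgroup Q)
      rw [hP]
      exact h2) hst
  rw [R_card] at h1
  have h2 := (Subgroup.normalizer (P0 : Set Q)).index_mul_card
  rw [card_Q] at h2
  have h3 := le_card_norm
  have h4 : 3 ^ 12 * 144 ≤ 44352000 := by
    rw [← h2]
    exact Nat.mul_le_mul h1 h3
  norm_num at h4

/-- **The row `HS`, `p = 3`** -/
theorem ek_three_hs {S : Type u} [Group S] [Finite S] (h : Spor.IsoHS S) : EK 3 S := by
  refine ek_of_noPEx (noPEx_three h) Nat.prime_two ?_
  intro E _ _ π hπ hc hE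
  obtain ⟨e⟩ := h
  have h1 := Cfsg.Agent.H95.StemCover.card_ker_dvd_cyclic S2046.result hE (e.toMonoidHom.comp π)
    (e.surjective.comp hπ) (by
      intro x hx
      refine hc ?_
      have h2 : e (π x) = 1 := hx
      exact (map_eq_one_iff e e.injective).1 h2)
  have h2 : (e.toMonoidHom.comp π).ker = π.ker := by
    ext x
    change e (π x) = 1 ↔ π x = 1
    rw [map_eq_one_iff e e.injective]
  rwa [h2] at h1

end Cfsg.Agent.H257.RIM.HS
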